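import Cfsg.Agent.FS.B.Bas0

/-!
# S5263 from a list of claims, with a fast covering test

The presentations share their lowest bits, so they are compared through keys whose lowest bits are spread.
-/

set_option autoImplicit false

namespace Cfsg.Agent.FS.Asm

open Cfsg Cfsg.Agent.FS.Pc Cfsg.Agent.FS.Sw Cfsg.Agent.FS.B

universe u

/-- an injective key -/
def key (m v : ℕ) : ℕ := Nat.add (Nat.mul (Nat.add (Nat.mul v 256) (Nat.mod m 256)) 4294967291) (Nat.mod v 4294967291)

theorem key_inj {m v m' v' : ℕ} (h : key m v = key m' v') : m % 256 = m' % 256 ∧ v = v' := by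
  have h1 : (v * 256 + m % 256) * 4294967291 + v % 4294967291 =
    (v' * 256 + m' % 256) * 4294967291 + v' % 4294967291 := h
  omega

/-- the keys of a list, evaluated -/
noncomputable def keys (gl : List (ℕ × ℕ)) : (List ℕ → Bool) → Bool :=
  List.rec (fun k => k []) (fun p _ ih k => an (Nat.blt p.1 256) (frc (key p.1 p.2) fun v => ih fun l => k (v :: l))) gl

theorem keys_spec : ∀ (gl : List (ℕ × ℕ)) (k : List ℕ → Bool), keys gl k = true →
    (∀ p ∈ gl, p.1 < 256) ∧ k (gl.map fun p => key p.1 p.2) = true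
  | [], _, h => ⟨fun _ h1 => absurd h1 List.not_mem_nil, h⟩
  | p :: l, k, h => by
    have h1 : an (Nat.blt p.1 256) (frc (key p.1 p.2) fun v => keys l fun l => k (v :: l)) = true := h
    rw [an_iff, frc_eq, B.blt_iff] at h1
    obtain ⟨h2, h3⟩ := keys_spec l _ h1.2
    exact ⟨fun q hq => (List.mem_cons.1 hq).elim (fun h4 => h4 ▸ h1.1) (h2 q), h3⟩

/-- The members of `S m` occur in the list `gl`. -/
noncomputable def cov2 (gl : List (ℕ × ℕ)) : Bool :=
  keys gl fun K => allL [3, 4, 5, 6, 7, 8] fun m => allL (Sw.S m) fun l => allL l fun T =>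
    frc (key m (w8 m T.rel)) fun v => nt (allL K (ne v))

theorem final2 {gl : List (ℕ × ℕ)} (hc : cov2 gl = true) (H : ∀ p ∈ gl, Cl p.1 p.2)
    {Ω : Type u} [Group Ω] {S : Subgroup Ω} [Finite S] (hS : IsPGroup 2 S) (F : FusionSystem S)
    (hred : F.IsReduced 2) (hcard : Nat.card S ≤ 2 ^ 8) : F.IsRealizable 2 := by
  refine final (fun m h3 h8 l hl T hT => ?_) hS F hred hcard
  obtain ⟨h4, hc⟩ := keys_spec _ _ hc
  rw [allL_iff] at hc
  have h0 := hc m (by simp only [List.mem_cons, List.not_mem_nil]; omega)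
  rw [allL_iff] at h0
  have h2 := h0 l hl
  rw [allL_iff] at h2
  have h1 := h2 T hT
  rw [frc_eq, nt_iff, allL_iff] at h1
  simp only [B.ne_iff, not_forall, not_not] at h1
  obtain ⟨_, h5, h6⟩ := h1
  obtain ⟨p, hp, rfl⟩ := List.mem_map.1 h5
  obtain ⟨h7, h9⟩ := key_inj h6
  rw [Nat.mod_eq_of_lt (h4 p hp), Nat.mod_eq_of_lt (by omega)] at h7
  rw [h9, h7]
  exact H p hp

end Cfsg.Agent.FS.Asm
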