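import Cfsg.Agent.FS.Real.Hyp
import Cfsg.Agent.FS.Th.Elem
import Cfsg.Prelude.Def_FusionReduction

/-!
# Glue for the final assembly (helper83, project FS)

* `Good G`, `reduce`: the statement S5263 follows from `Good G` for the groups `G : Type` of order `2 ^ (n + 1)`, `2 ≤ n ≤ 7`.
* `closed_tw`, `tw_of_le`: two systems generated by corresponding maps are twisted.
* `gen_of_table`: generators with the presentation `D` from any multiplication table.
-/

set_option autoImplicit false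

namespace Cfsg.Agent.FS.Asm

open Cfsg Cfsg.FusionSystem Cfsg.Agent.H752 Cfsg.Agent.FS.Th Cfsg.Agent.FS.Real

universe u

/-- Every system with (H) over `G` is realizable. -/
def Good (G : Type u) [Group G] : Prop := ∀ F : FusionSystem (⊤ : Subgroup G), Hyp F → F.IsRealizable 2

theorem good_of_equiv {G : Type u} {G' : Type*} [Group G] [Group G'] [Finite G] (e : G ≃* G') (h : Good G') : Good G :=
  fun _ hF => isRealizable_of_equiv hF (Subgroup.topEquiv.trans e) h

theorem good_of_subsingleton (G : Type u) [Group G] [Subsingleton G] : Good G := fun F _ => by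
  have : Fact (Nat.Prime 2) := ⟨Nat.prime_two⟩
  refine Ind.isRealizable (f := MonoidHom.id G) (fun P a => ⟨fun _ => ⟨1, fun _ _ => Subsingleton.elim _ _⟩,
    fun _ => (mp_id F le_top).congr fun _ _ => Subsingleton.elim _ _⟩) Function.injective_id default ?_
  ext x
  rw [Subsingleton.elim x 1]
  exact ⟨fun _ => Subgroup.one_mem _, fun _ => Subgroup.one_mem _⟩

theorem exists_central_involution {G : Type u} [Group G] [Finite G] [Nontrivial G] (hG : IsPGroup 2 G) :
    ∃ z : G, z * z = 1 ∧ z ≠ 1 ∧ ∀ y, z * y = y * z := by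
  have : Fact (Nat.Prime 2) := ⟨Nat.prime_two⟩
  have hZ := hG.center_nontrivial
  obtain ⟨k, hk0, hk⟩ := (hG.to_subgroup (Subgroup.center G)).nontrivial_iff_card.1 hZ
  obtain ⟨c, hc⟩ := exists_prime_orderOf_dvd_card' (G := Subgroup.center G) 2 (hk ▸ dvd_pow_self 2 hk0.ne')
  refine ⟨c, ?_, fun h => ?_, fun y => (Subgroup.mem_center_iff.1 c.2 y).symm⟩
  · have h3 : c * c = 1 := by rw [← pow_two, ← hc, pow_orderOf_eq_one]
    exact congrArg Subtype.val h3
  · rw [show c = 1 from Subtype.ext h, orderOf_one] at hc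
    omega

/-- **The reduction.** -/
theorem reduce (H : ∀ n : ℕ, 2 ≤ n → n ≤ 7 → ∀ (G : Type) [Group G] [Finite G], Nat.card G = 2 ^ (n + 1) → Good G)
    {Ω : Type u} [Group Ω] {S : Subgroup Ω} [Finite S] (hS : IsPGroup 2 S) (F : FusionSystem S)
    (hred : F.IsReduced 2) (hcard : Nat.card S ≤ 2 ^ 8) : F.IsRealizable 2 := by
  have : Fact (Nat.Prime 2) := ⟨Nat.prime_two⟩
  obtain ⟨G, _, _, ⟨e⟩⟩ := Finite.exists_type_univ_nonempty_mulEquiv.{u, 0} S
  refine isRealizable_of_equiv ⟨hred.1, hred.2.1, hred.2.2.1⟩ e ?_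
  have hG : IsPGroup 2 G := hS.of_equiv e
  have hc : Nat.card G = Nat.card S := Nat.card_congr e.symm.toEquiv
  obtain ⟨k, hk⟩ := IsPGroup.iff_card.1 hG
  have hk8 : k ≤ 8 := (Nat.pow_le_pow_iff_right (by norm_num)).1 (hk ▸ hc ▸ hcard)
  rcases subsingleton_or_nontrivial G with h0 | h0
  · exact good_of_subsingleton G
  · intro F' hF'
    by_cases h3 : 3 ≤ k
    · exact H (k - 1) (by omega) (by omega) G (by rw [hk]; congr 1; omega) F' hF'
    · have h4 := hF'.card_of_index hG (K := ⊥) (fun x hx g => by rw [Subgroup.mem_bot.1 hx, mul_one, one_mul]) (by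
        rw [Subgroup.index_bot, hk]
        exact Nat.pow_le_pow_right (by norm_num) (show k ≤ 2 by omega))
      rw [hk] at h4
      have h5 : 2 ^ k ≤ 2 ^ 2 := Nat.pow_le_pow_right (by norm_num) (by omega)
      omega

section tw

variable {A : Type u} [Group A] {F F' : FusionSystem (⊤ : Subgroup A)}

/-- The map `f` on `P`, moved by `θ`, belongs to `F'`. -/
def Mv (F' : FusionSystem (⊤ : Subgroup A)) (θ : MulAut A) (P : Subgroup A) (f : A → A) : Prop :=
  Mp F' (P.map θ.toMonoidHom) fun y => θ (f (θ⁻¹ y))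

theorem mem_map_iff' (θ : MulAut A) (P : Subgroup A) (y : A) : y ∈ P.map θ.toMonoidHom ↔ θ⁻¹ y ∈ P := by
  constructor
  · rintro ⟨x, hx, rfl⟩
    show θ⁻¹ (θ x) ∈ P
    rwa [MulAut.inv_apply_self]
  · intro h
    exact ⟨_, h, MulAut.apply_inv_self _ _ _⟩

theorem closed_tw (F F' : FusionSystem (⊤ : Subgroup A)) (θ : MulAut A) : Closed F (Mv F' θ) where
  congr := fun P f g _ h1 h2 => Mp.congr h1 fun y hy => by rw [h2 _ ((mem_map_iff' θ P y).1 hy)]
  comp := fun P Q f g _ _ h1 h2 h3 => (Mp.comp h1 h2 fun y hy => ⟨_, h3 _ ((mem_map_iff' θ P y).1 hy), rfl⟩).congr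
    fun y _ => by rw [MulAut.inv_apply_self]
  inv := fun P R f g _ h1 _ h2 _ => Mp.symm h1 fun y hy => by
    obtain ⟨x, hx, h3, h4⟩ := h2 _ ((mem_map_iff' θ R y).1 hy)
    refine ⟨θ x, ⟨x, hx, rfl⟩, ?_, by rw [h4]⟩
    rw [MulAut.inv_apply_self, h3, MulAut.apply_inv_self]
  conj := fun P _ s _ => (mp_conj F' le_top (Subgroup.mem_top (θ s))).congr fun y _ => by
    rw [map_mul, map_mul, map_inv, MulAut.apply_inv_self]

theorem tw_of_le (θ : MulAut A) (h1 : ∀ P f, Mp F P f → Mv F' θ P f) (h2 : ∀ P f, Mp F' P f → Mv F θ⁻¹ P f) :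
    Tw F F' := by
  refine ⟨θ, fun P a b hab => ⟨fun h => ?_, fun h => (h1 P a h).congr fun y hy => ?_⟩⟩
  · have h3 := h2 _ _ h
    refine (Mp.res h3 fun x hx => ⟨θ x, ⟨x, hx, rfl⟩, MulAut.inv_apply_self _ _ _⟩).congr fun x hx => ?_
    rw [inv_inv, hab x hx, MulAut.inv_apply_self]
  · rw [← hab _ ((mem_map_iff' θ P y).1 hy), MulAut.apply_inv_self]

/-- A map of `F'` that corresponds to `f` on generators gives `Mv`. -/
theorem mv_of_closure (θ : MulAut A) {s : Set A} {f g : A → A} (hf : Mp F (Subgroup.closure s) f)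
    {Q : Subgroup A} (hg : Mp F' Q g) (hQ : ∀ x ∈ s, θ x ∈ Q) (h : ∀ x ∈ s, g (θ x) = θ (f x)) :
    Mv F' θ (Subgroup.closure s) f := by
  have h1 : ∀ x ∈ Subgroup.closure s, θ x ∈ Q ∧ g (θ x) = θ (f x) := fun x hx => by
    induction hx using Subgroup.closure_induction with
    | mem x hx => exact ⟨hQ x hx, h x hx⟩
    | one => exact ⟨by rw [map_one]; exact Q.one_mem, by rw [map_one, hg.one, hf.one, map_one]⟩
    | mul x y hx hy h2 h3 =>
      exact ⟨by rw [map_mul]; exact Q.mul_mem h2.1 h3.1, by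
        rw [map_mul, hg.mul h2.1 h3.1, h2.2, h3.2, hf.mul hx hy, map_mul]⟩
    | inv x hx h2 =>
      exact ⟨by rw [map_inv]; exact Q.inv_mem h2.1, by rw [map_inv, hg.inv h2.1, h2.2, hf.inv hx, map_inv]⟩
  refine (hg.res ?_).congr ?_
  · rintro _ ⟨x, hx, rfl⟩
    exact (h1 x hx).1
  · rintro _ ⟨x, hx, rfl⟩
    show θ (f (θ⁻¹ (θ x))) = g (θ x)
    rw [MulAut.inv_apply_self, (h1 x hx).2]

end tw

/-- `e` enumerates the group `A` with the multiplication table `mul` on `[0, N)`. -/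
structure En {A : Type u} [Group A] (mul : ℕ → ℕ → ℕ) (N : ℕ) (e : ℕ → A) : Prop where
  lt : ∀ a, a < N → ∀ b, b < N → mul a b < N
  mul : ∀ a, a < N → ∀ b, b < N → e (mul a b) = e a * e b
  surj : ∀ g, ∃ a, a < N ∧ e a = g
  card : Nat.card A = N

namespace En

variable {A : Type u} [Group A] {mul : ℕ → ℕ → ℕ} {N : ℕ} {e e' : ℕ → A}

theorem bij (h : En mul N e) : Function.Bijective fun a : Fin N => e a :=
  (Nat.bijective_iff_surjective_and_card _).2 ⟨fun g => by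
    obtain ⟨a, ha, h1⟩ := h.surj g
    exact ⟨⟨a, ha⟩, h1⟩, by rw [h.card, Nat.card_fin]⟩

theorem inj (h : En mul N e) {a b : ℕ} (ha : a < N) (hb : b < N) (hab : e a = e b) : a = b :=
  congrArg Fin.val (h.bij.1 (a₁ := ⟨a, ha⟩) (a₂ := ⟨b, hb⟩) hab)

/-- two enumerations with the same table differ by an automorphism -/
theorem exists_aut (h : En mul N e) (h' : En mul N e') : ∃ θ : MulAut A, ∀ a, a < N → θ (e a) = e' a := by
  let E := (Equiv.ofBijective _ h.bij).symm.trans (Equiv.ofBijective _ h'.bij)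
  have h1 : ∀ a, a < N → E (e a) = e' a := fun a ha =>
    congrArg (fun b : Fin N => e' b) ((Equiv.ofBijective _ h.bij).symm_apply_apply ⟨a, ha⟩)
  refine ⟨{ E with map_mul' := fun x y => ?_ }, h1⟩
  obtain ⟨a, ha, rfl⟩ := h.surj x
  obtain ⟨b, hb, rfl⟩ := h.surj y
  show E _ = E _ * E _
  rw [← h.mul a ha b hb, h1 _ (h.lt a ha b hb), h1 a ha, h1 b hb, h'.mul a ha b hb]

end En

/-- the index of a normal form in the generators `w`; `o` is the index of `1` -/
noncomputable def imgT (mul : ℕ → ℕ → ℕ) (o : ℕ) (w : ℕ → ℕ) (n a : ℕ) : ℕ :=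
  Nat.rec o (fun k r => bif tb a k then mul r (w k) else r) n

/-- the elements `w i` of the table satisfy the presentation `D` -/
noncomputable def chkT (D : PcD) (mul : ℕ → ℕ → ℕ) (o : ℕ) (w : ℕ → ℕ) : Bool :=
  Nat.blt o D.N && Nat.beq (mul o o) o && (allB D.n fun i => Nat.blt (w i) D.N) &&
  (allB D.n fun i => Nat.beq (mul (w i) (w i)) (imgT mul o w D.n (D.rel i i))) &&
  (allB D.n fun j => allB j fun i => Nat.beq (mul (w j) (w i)) (mul (w i) (imgT mul o w D.n (D.rel j i)))) &&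
  D.zl.all fun z => !Nat.beq (imgT mul o w D.n z) o

theorem gen_of_table {A : Type u} [Group A] {mul : ℕ → ℕ → ℕ} {e : ℕ → A} {D : PcD} (hD : D.Ok) (h : En mul D.N e)
    {o : ℕ} {w : ℕ → ℕ} (hc : chkT D mul o w = true) : Gen D ⊤ fun i => e (w i) := by
  unfold chkT at hc
  simp only [Bool.and_eq_true, List.all_eq_true] at hc
  obtain ⟨⟨⟨⟨⟨h0, h00⟩, h1⟩, h2⟩, h3⟩, h4⟩ := hc
  have ho := blt_lt h0
  have he : e o = 1 := by
    have h5 := h.mul o ho o ho
    rw [beq_eq h00] at h5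
    exact left_eq_mul.1 h5
  have hw : ∀ i, i < D.n → w i < D.N := fun i hi => blt_lt (allB_spec h1 hi)
  have himg : ∀ a k, k ≤ D.n → imgT mul o w k a < D.N ∧ el (fun i => e (w i)) k a = e (imgT mul o w k a) := by
    intro a k
    induction k with
    | zero => exact fun _ => ⟨ho, he.symm⟩
    | succ k ih =>
      intro hk
      obtain ⟨h5, h6⟩ := ih (by omega)
      have h7 : imgT mul o w (k + 1) a = bif tb a k then mul (imgT mul o w k a) (w k) else imgT mul o w k a := rfl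
      rw [h7, el_succ, h6]
      cases tb a k
      · exact ⟨h5, rfl⟩
      · exact ⟨h.lt _ h5 _ (hw k hk), (h.mul _ h5 _ (hw k hk)).symm⟩
  have hR : Rel D fun i => e (w i) := by
    refine ⟨fun i hi => ?_, fun i j hij hj => ?_⟩
    · rw [(himg _ _ le_rfl).2, ← h.mul _ (hw i hi) _ (hw i hi), beq_eq (allB_spec h2 hi)]
    · rw [(himg _ _ le_rfl).2, ← h.mul _ (hw j hj) _ (hw i (hij.trans hj)),
        ← h.mul _ (hw i (hij.trans hj)) _ (himg _ _ le_rfl).1, beq_eq (allB_spec (allB_spec h3 hj) hij)]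
  have hG := hR.gen hD fun z hz h5 => by
    rw [(himg _ _ le_rfl).2, ← he] at h5
    exact nbeq_ne (h4 z hz) (h.inj (himg _ _ le_rfl).1 ho h5)
  have h5 : hR.sub hD = ⊤ := by
    have : Finite A := Nat.finite_of_card_ne_zero (by rw [h.card]; exact D.N_pos.ne')
    refine Subgroup.eq_top_of_card_eq _ ?_
    rw [hG.card, h.card]
    rfl
  rw [← h5]
  exact hG

/-- `F` contains a map given on generators by the pairs `L` of indices. -/
def HasL {A : Type u} [Group A] (F : FusionSystem (⊤ : Subgroup A)) (e : ℕ → A) (L : List (ℕ × ℕ)) : Prop :=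
  ∃ f, Mp F (Subgroup.closure {x | ∃ p ∈ L, x = e p.1}) f ∧ ∀ p ∈ L, f (e p.1) = e p.2

/-- `F` is of the type `X` for the enumeration `e`: it contains the maps `X` and is generated by them. -/
structure TyL {A : Type u} [Group A] (F : FusionSystem (⊤ : Subgroup A)) (e : ℕ → A) (X : List (List (ℕ × ℕ))) :
    Prop where
  has : ∀ L ∈ X, HasL F e L
  gen : ∀ M, Closed F M → (∀ L ∈ X, ∀ f, Mp F (Subgroup.closure {x | ∃ p ∈ L, x = e p.1}) f →
    (∀ p ∈ L, f (e p.1) = e p.2) → M (Subgroup.closure {x | ∃ p ∈ L, x = e p.1}) f) → ∀ P f, Mp F P f → M P f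

theorem TyL.le {A : Type u} [Group A] {F F' : FusionSystem (⊤ : Subgroup A)} {e e' : ℕ → A} {N : ℕ}
    {X : List (List (ℕ × ℕ))} (hX : ∀ L ∈ X, ∀ p ∈ L, p.1 < N ∧ p.2 < N) (h : TyL F e X) (h' : TyL F' e' X)
    {θ : MulAut A} (hθ : ∀ a, a < N → θ (e a) = e' a) : ∀ P f, Mp F P f → Mv F' θ P f := by
  refine h.gen _ (closed_tw F F' θ) fun L hL f hf h1 => ?_
  obtain ⟨g, hg, h2⟩ := h'.has L hL
  refine mv_of_closure θ hf hg ?_ ?_
  · rintro _ ⟨p, hp, rfl⟩
    exact Subgroup.subset_closure ⟨p, hp, hθ _ (hX L hL p hp).1⟩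
  · rintro _ ⟨p, hp, rfl⟩
    rw [hθ _ (hX L hL p hp).1, h2 p hp, h1 p hp, hθ _ (hX L hL p hp).2]

theorem TyL.tw {A : Type u} [Group A] {F F' : FusionSystem (⊤ : Subgroup A)} {e e' : ℕ → A} {mul : ℕ → ℕ → ℕ} {N : ℕ}
    {X : List (List (ℕ × ℕ))} (hX : ∀ L ∈ X, ∀ p ∈ L, p.1 < N ∧ p.2 < N) (he : En mul N e) (he' : En mul N e')
    (h : TyL F e X) (h' : TyL F' e' X) : Tw F F' := by
  obtain ⟨θ, hθ⟩ := he.exists_aut he'
  exact tw_of_le θ (h.le hX h' hθ) (h'.le hX h fun a ha => by rw [← hθ a ha, MulAut.inv_apply_self])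

/-- **B + C.**  `k` types and `k` models. -/
theorem good_of_types {A : Type} [Group A] {mul : ℕ → ℕ → ℕ} {e : ℕ → A} {D : PcD} {k : ℕ} (hM : Models D k)
    (hD : D.Ok) (he : En mul D.N e) {o : ℕ} {w : ℕ → ℕ} (hc : chkT D mul o w = true)
    (X : Fin k → List (List (ℕ × ℕ))) (hX : ∀ t, ∀ L ∈ X t, ∀ p ∈ L, p.1 < D.N ∧ p.2 < D.N)
    (hB : ∀ F : FusionSystem (⊤ : Subgroup A), Hyp F → ∃ e' t, En mul D.N e' ∧ TyL F e' (X t)) : Good A :=
  hM.realizable (gen_of_table hD he hc) (fun F t => ∃ e', En mul D.N e' ∧ TyL F e' (X t))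
    (fun F hF => by
      obtain ⟨e', t, h⟩ := hB F hF
      exact ⟨t, e', h⟩)
    fun _ _ t _ _ ⟨_, h1, h2⟩ ⟨_, h3, h4⟩ => TyL.tw (hX t) h1 h3 h2 h4

end Cfsg.Agent.FS.Asm
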