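import Cfsg.Agent.FS.Sw.List
import Cfsg.Agent.FS.Gen.Iso
import Cfsg.Agent.FS.Asm.Red

/-!
# The last reduction: S5263 from the claims on the listed groups (helper49, project FS)

`Cl n R`: every system with (H) over a group with the presentation `R` (entries of 8 bits) is realizable.
`w8 m R`: the presentation `R` with entries of `m` bits, repacked with entries of 8 bits.
-/

set_option autoImplicit false

namespace Cfsg.Agent.FS.Asm

open Cfsg Cfsg.FusionSystem Cfsg.Agent.FS.Th
open Pc (el IsPc Base get tri)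

universe u

/-- The claim on one group. -/
def Cl (n R : ℕ) : Prop :=
  ∀ (A : Type) [Group A] (F : FusionSystem (⊤ : Subgroup A)), Hyp F → Nat.card A = 2 ^ n →
    ∀ y : ℕ → A, IsPc y 0 n 8 R → (∀ g, ∃ a, a < 2 ^ n ∧ g = el y n a) → F.IsRealizable 2

/-- The first `k` entries of width `m`, repacked with width 8. -/
noncomputable def rep (m R k : ℕ) : ℕ := Nat.rec 0 (fun i r => r + (get m R i) <<< (8 * i)) k

/-- The presentation repacked with width 8. -/
noncomputable def w8 (m R : ℕ) : ℕ := rep m R (tri m 0)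

theorem rep_lt {m : ℕ} (hm : m ≤ 8) (R k : ℕ) : rep m R k < 2 ^ (8 * k) := by
  induction k with
  | zero => exact Nat.one_pos
  | succ k ih =>
    show rep m R k + (get m R k) <<< (8 * k) < _
    have h1 : get m R k < 2 ^ 8 := (Pc.get_lt m R k).trans_le (Nat.pow_le_pow_right (by norm_num) hm)
    rw [Nat.shiftLeft_eq, Nat.mul_succ, pow_add]
    nlinarith [Nat.two_pow_pos (8 * k)]

theorem get_rep {m : ℕ} (hm : m ≤ 8) (R : ℕ) {i : ℕ} : ∀ k, i < k → get 8 (rep m R k) i = get m R i := by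
  intro k
  induction k with
  | zero => exact fun h => absurd h (Nat.not_lt_zero i)
  | succ k ih =>
    intro hk
    have h0 : rep m R (k + 1) = rep m R k + (get m R k) <<< (8 * k) := rfl
    have h1 : get m R k < 2 ^ 8 := (Pc.get_lt m R k).trans_le (Nat.pow_le_pow_right (by norm_num) hm)
    rcases Nat.lt_succ_iff_lt_or_eq.1 hk with h | rfl
    · rw [← ih h, h0]
      generalize get m R k = c
      generalize rep m R k = b
      unfold Pc.get
      obtain ⟨d, rfl⟩ := Nat.exists_eq_add_of_lt h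
      rw [Nat.shiftRight_eq_div_pow, Nat.shiftRight_eq_div_pow, Nat.shiftLeft_eq,
        show 8 * (i + d + 1) = 8 * d + 8 + 8 * i by ring, pow_add, ← mul_assoc, Nat.add_mul_div_right _ _ (Nat.two_pow_pos _),
        pow_add, ← mul_assoc, Nat.add_mul_mod_self_right]
    · rw [h0]
      show ((rep m R i + (get m R i) <<< (8 * i)) >>> (8 * i)) % 2 ^ 8 = _
      rw [Nat.shiftRight_eq_div_pow, Nat.shiftLeft_eq, Nat.add_mul_div_right _ _ (Nat.two_pow_pos _),
        Nat.div_eq_of_lt (rep_lt hm R i), Nat.zero_add, Nat.mod_eq_of_lt h1]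

theorem tri_lt {k j m : ℕ} (hk : k < m) (hj : j ≤ k) : tri k j < tri m 0 := by
  obtain ⟨d, rfl⟩ := Nat.exists_eq_add_of_lt hk
  unfold tri
  have h1 : (k + 1) * (k + 1 + 1) ≤ (k + d + 1) * (k + d + 1 + 1) := Nat.mul_le_mul (by omega) (by omega)
  have h2 : (k + 1) * (k + 1 + 1) = k * (k + 1) + 2 * (k + 1) := by ring
  omega

theorem isPc_w8 {A : Type u} [Group A] {y : ℕ → A} {m R : ℕ} (hm : m ≤ 8) (h : IsPc y 0 m m R) : IsPc y 0 m 8 (w8 m R) :=
  ⟨h.tsq, h.tc, fun k hk => by rw [w8, get_rep hm R _ (tri_lt hk le_rfl)]; exact h.pw k hk,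
    fun k hk j hj => by rw [w8, get_rep hm R _ (tri_lt hk hj.le)]; exact h.cj k hk j hj⟩

/-- All members of `S m` have no tails and the width `m`. -/
theorem shape : ∀ m ∈ [3, 4, 5, 6, 7, 8], ((Sw.S m).all fun l => l.all fun T => Nat.beq T.r 0 && Nat.beq T.w m) = true := by
  decide +kernel

/-- **S5263 from the claims.** -/
theorem final (H : ∀ m, 3 ≤ m → m ≤ 8 → ∀ l ∈ Sw.S m, ∀ T ∈ l, Cl m (w8 m T.rel))
    {Ω : Type u} [Group Ω] {S : Subgroup Ω} [Finite S] (hS : IsPGroup 2 S) (F : FusionSystem S)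
    (hred : F.IsReduced 2) (hcard : Nat.card S ≤ 2 ^ 8) : F.IsRealizable 2 := by
  refine reduce (fun n h2 h7 G _ _ hG F hF => ?_) hS F hred hcard
  obtain ⟨l, hl, T, hT, y, hy⟩ := Sw.list hF h2 h7 hG
  have h1 := shape (n + 1) (by simp only [List.mem_cons, List.not_mem_nil]; omega)
  have h3 := List.all_eq_true.1 (List.all_eq_true.1 h1 l hl) T hT
  rw [Bool.and_eq_true] at h3
  have h4 := Nat.eq_of_beq_eq_true h3.2
  obtain ⟨h5, h6⟩ := hy.isPc (Nat.eq_of_beq_eq_true h3.1) h4.ge
  rw [h4] at h5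
  exact H (n + 1) (by omega) (by omega) l hl T hT G F hF hG y (isPc_w8 (by omega) h5) h6

/-- The members of `S m` occur in the list `gl`, in the same order. -/
noncomputable def cov (gl : List (ℕ × ℕ)) : Bool :=
  [3, 4, 5, 6, 7, 8].all fun m => (Sw.S m).all fun l => l.all fun T =>
    gl.any fun p => Nat.beq p.2 (w8 m T.rel) && Nat.beq p.1 m

/-- **S5263 from a list of claims.** -/
theorem final' {gl : List (ℕ × ℕ)} (hc : cov gl = true) (H : ∀ p ∈ gl, Cl p.1 p.2)
    {Ω : Type u} [Group Ω] {S : Subgroup Ω} [Finite S] (hS : IsPGroup 2 S) (F : FusionSystem S)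
    (hred : F.IsReduced 2) (hcard : Nat.card S ≤ 2 ^ 8) : F.IsRealizable 2 := by
  refine final (fun m h3 h8 l hl T hT => ?_) hS F hred hcard
  have h1 := List.all_eq_true.1 hc m (by simp only [List.mem_cons, List.not_mem_nil]; omega)
  obtain ⟨p, hp, h2⟩ := List.any_eq_true.1 (List.all_eq_true.1 (List.all_eq_true.1 h1 l hl) T hT)
  rw [Bool.and_eq_true] at h2
  rw [← Nat.eq_of_beq_eq_true h2.1, ← Nat.eq_of_beq_eq_true h2.2]
  exact H p hp

end Cfsg.Agent.FS.Asm
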