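import Cfsg.Agent.FS.Asm.Fin

/-!
# The listed groups with a centre of index 4 (helper49, project FS)
-/

set_option autoImplicit false

namespace Cfsg.Agent.FS.Asm

open Cfsg Cfsg.FusionSystem Cfsg.Agent.FS.Th
open Pc (el IsPc mulT tab frc frc_eq)
open Real (allB allB_spec beq_eq blt_lt)

/-- `x` commutes with all elements of the table -/
noncomputable def cenB (m : ℕ → ℕ → ℕ) (N x : ℕ) : Bool := allB N fun k => Nat.beq (m x k) (m k x)

/-- the first quarter of the table is central -/
noncomputable def idx4 (n R : ℕ) : Bool :=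
  frc (tab 0 n 8 R) fun T => Nat.blt 3 n && Nat.ble n 8 && allB (2 ^ (n - 2)) fun x => cenB (mulT 0 n 8 T) (2 ^ n) x

theorem cl_of_idx4 {n R : ℕ} (h : idx4 n R = true) : Cl n R := by
  intro A _ F hF hA y hy hs
  unfold idx4 at h
  rw [frc_eq, Bool.and_eq_true, Bool.and_eq_true] at h
  obtain ⟨⟨h3, h8⟩, h⟩ := h
  have h3 := blt_lt h3
  have h8 := Nat.le_of_ble_eq_true h8
  have : Finite A := Nat.finite_of_card_ne_zero (by rw [hA]; exact (Nat.two_pow_pos n).ne')
  have : Nontrivial A := Finite.one_lt_card_iff_nontrivial.1 (hA ▸ Nat.one_lt_two_pow (by omega))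
  have hlt : 2 ^ (n - 2) ≤ 2 ^ n := Nat.pow_le_pow_right (by norm_num) (by omega)
  have hm : ∀ a, a < 2 ^ n → ∀ b, b < 2 ^ n → el y n a * el y n b = el y n (mulT 0 n 8 (tab 0 n 8 R) a b) :=
    fun a ha b hb => by
      have h1 := (hy.mul (by omega) (x := a) (y := b) (by rwa [Nat.zero_add]) (by rwa [Nat.zero_add])).2
      rwa [Nat.zero_add] at h1
  have hc : ∀ x : Fin (2 ^ (n - 2)), el y n x ∈ Subgroup.center A := fun x => Subgroup.mem_center_iff.2 fun g => by
    obtain ⟨a, ha, rfl⟩ := hs g
    rw [hm a ha x (x.2.trans_le hlt), hm x (x.2.trans_le hlt) a ha, beq_eq (allB_spec (allB_spec h x.2) ha)]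
  have hb : Function.Bijective fun a : Fin (2 ^ n) => el y n a :=
    (Nat.bijective_iff_surjective_and_card _).2 ⟨fun g => by
      obtain ⟨a, ha, h1⟩ := hs g
      exact ⟨⟨a, ha⟩, h1.symm⟩, by rw [hA, Nat.card_fin]⟩
  have h1 : 2 ^ (n - 2) ≤ Nat.card (Subgroup.center A) := by
    have h2 := Nat.card_le_card_of_injective (fun x : Fin (2 ^ (n - 2)) => (⟨_, hc x⟩ : Subgroup.center A))
      fun a b hab => Fin.ext (congrArg Fin.val (hb.1 (a₁ := ⟨a, a.2.trans_le hlt⟩) (a₂ := ⟨b, b.2.trans_le hlt⟩)
        (congrArg Subtype.val hab)) :)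
    rwa [Nat.card_fin] at h2
  have h2 := (Subgroup.center A).card_mul_index
  have h4 : 2 ^ n = 2 ^ (n - 2) * 4 := by
    rw [show n = n - 2 + 2 by omega, pow_add]
    rfl
  have h5 := hF.card_of_index (IsPGroup.of_card hA) (K := Subgroup.center A)
    (fun x hx g => Subgroup.mem_center_iff.1 hx g) (by
      rw [hA, h4] at h2
      exact Nat.le_of_mul_le_mul_left ((Nat.mul_le_mul_right _ h1).trans h2.le) (Nat.two_pow_pos _))
  have h6 : 2 ^ 4 ≤ 2 ^ n := Nat.pow_le_pow_right (by norm_num) h3
  omega

/-- The ten groups of the list with a centre of index 4 and order at least 16. -/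
def l4 : List (ℕ × ℕ) := [(4, 0x50201000201000100), (4, 0x2050201000201000100),
  (5, 0x904020100040201000201000100), (5, 0x20904020100040201000201000100),
  (6, 0x1108040201000804020100040201000201000100), (6, 0x21108040201000804020100040201000201000100),
  (7, 0x211008040201001008040201000804020100040201000201000100),
  (7, 0x2211008040201001008040201000804020100040201000201000100),
  (8, 0x24120100804020100201008040201001008040201000804020100040201000201000100),
  (8, 0x4220100804020100201008040201001008040201000804020100040201000201000100)]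

theorem l4_ok : (l4.all fun p => idx4 p.1 p.2) = true := by decide +kernel

theorem cl_l4 : ∀ p ∈ l4, Cl p.1 p.2 := fun p hp => cl_of_idx4 (List.all_eq_true.1 l4_ok p hp)

end Cfsg.Agent.FS.Asm
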